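import Mathlib.RingTheory.Ideal.AssociatedPrime.Localization
import Mathlib.RingTheory.Ideal.AssociatedPrime.Finiteness
import Mathlib.RingTheory.Spectrum.Prime.Noetherian
import Mathlib.RingTheory.Flat.Basic
import Mathlib.RingTheory.LocalRing.RingHom.Basic
import Mathlib.RingTheory.TensorProduct.Quotient

/-!
# The maximal ideal as an associated prime under a flat local base change
-/

universe u

open IsLocalRing TensorProduct

namespace Groth.Agent.RelAss14

/-- Transfer along a surjection. -/
theorem ass_maximal_congr {R B : Type u} [CommRing R] [IsLocalRing R] [CommRing B] [IsLocalRing B]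
    (σ : R →+* B) (hσ : Function.Surjective σ) {M N : Type u} [AddCommGroup M] [Module R M]
    [AddCommGroup N] [Module B N] (e : M ≃+ N) (he : ∀ (r : R) (x : M), e (r • x) = σ r • e x) :
    IsAssociatedPrime (maximalIdeal R) M ↔ IsAssociatedPrime (maximalIdeal B) N := by
  have hm : (maximalIdeal B).comap σ = maximalIdeal R :=
    eq_maximalIdeal (Ideal.comap_isMaximal_of_surjective σ hσ)
  have hcol : ∀ x : M, ((⊥ : Submodule B N).colon {e x}).comap σ = (⊥ : Submodule R M).colon {x} := by
    intro x; ext r
    simp [Submodule.mem_colon_singleton, ← he]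
  have key : ∀ x : M, maximalIdeal R = ((⊥ : Submodule R M).colon {x}).radical ↔
      maximalIdeal B = ((⊥ : Submodule B N).colon {e x}).radical := by
    intro x
    rw [← hcol, ← Ideal.comap_radical, ← hm]
    exact (Ideal.comap_injective_of_surjective σ hσ).eq_iff
  constructor
  · rintro ⟨-, x, hx⟩
    exact ⟨inferInstance, e x, (key x).1 hx⟩
  · rintro ⟨-, y, hy⟩
    refine ⟨inferInstance, e.symm y, (key _).2 ?_⟩
    rwa [e.apply_symm_apply]

variable {R B : Type u} [CommRing R] [IsLocalRing R] [IsNoetherianRing R] [CommRing B] [IsLocalRing B]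
  [Algebra R B] [IsLocalHom (algebraMap R B)] [Module.Flat R B]
  (T : Type u) [AddCommGroup T] [Module R T] [Module.Finite R T]

/-- A flat local base change with a depth zero module came from a depth zero module. -/
theorem ass_maximal_of_tensor (h : IsAssociatedPrime (maximalIdeal B) (B ⊗[R] T)) :
    IsAssociatedPrime (maximalIdeal R) T := by
  by_contra hn
  have hnot : ¬ ((maximalIdeal R : Set R) ⊆ ⋃ p ∈ associatedPrimes R T, (p : Set R)) := by
    rw [Ideal.subset_union_prime_finite (associatedPrimes.finite R T) ⊥ ⊥ fun p hp _ _ => hp.1]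
    rintro ⟨p, hp, hle⟩
    exact hn ((eq_maximalIdeal ⟨⟨hp.1.ne_top, fun J hJ =>
      (maximalIdeal.isMaximal R).1.2 J (hle.trans_lt hJ)⟩⟩) ▸ hp)
  obtain ⟨r, hr, hreg⟩ := Set.not_subset.1 hnot
  rw [biUnion_associatedPrimes_eq_zero_divisors, Set.mem_setOf_eq] at hreg
  have hinj : Function.Injective ((LinearMap.lsmul R T r).lTensor B) := by
    refine Module.Flat.lTensor_preserves_injective_linearMap _ ?_
    rw [← LinearMap.ker_eq_bot, LinearMap.ker_eq_bot']
    intro x hx
    by_contra h0
    exact hreg ⟨x, h0, hx⟩
  have hinj' : Function.Injective fun z : B ⊗[R] T => algebraMap R B r • z := by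
    have : (fun z : B ⊗[R] T => algebraMap R B r • z) = (LinearMap.lsmul R T r).lTensor B := by
      funext z
      rw [algebraMap_smul, show (LinearMap.lsmul R T r) = r • LinearMap.id from by ext; simp,
        LinearMap.lTensor_smul, LinearMap.lTensor_id]
      simp
    rw [this]; exact hinj
  obtain ⟨-, z, hz⟩ := h
  have hmem : algebraMap R B r ∈ maximalIdeal B := fun hu => hr (IsUnit.of_map (algebraMap R B) r hu)
  rw [hz] at hmem
  obtain ⟨n, hn'⟩ := hmem
  rw [Submodule.mem_colon_singleton, Submodule.mem_bot] at hn'
  have hz0 : z = 0 := by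
    induction n with
    | zero => simpa using hn'
    | succ n ih =>
      apply ih
      apply hinj'
      show algebraMap R B r • algebraMap R B r ^ n • z = algebraMap R B r • 0
      rw [← mul_smul, ← pow_succ', hn', smul_zero]
  have htop : ((⊥ : Submodule B (B ⊗[R] T)).colon {z}) = ⊤ := by
    rw [hz0]; ext b; simp
  rw [htop, Ideal.radical_top] at hz
  exact (maximalIdeal.isMaximal B).ne_top hz

/-- Depth zero lifts to a zero-dimensional fibre. -/
theorem ass_maximal_tensor [IsNoetherianRing B] (h : IsAssociatedPrime (maximalIdeal R) T)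
    (hmin : maximalIdeal B ∈ ((maximalIdeal R).map (algebraMap R B)).minimalPrimes) :
    IsAssociatedPrime (maximalIdeal B) (B ⊗[R] T) := by
  obtain ⟨-, φ, hφ⟩ := (isAssociatedPrime_iff_exists_injective_linearMap _ _).1 h
  let Φ := φ.baseChange B
  have hΦ : Function.Injective Φ := Module.Flat.lTensor_preserves_injective_linearMap φ hφ
  have hann : Module.annihilator B (B ⊗[R] (R ⧸ maximalIdeal R)) = (maximalIdeal R).map (algebraMap R B) := by
    rw [((Algebra.TensorProduct.quotIdealMapEquivTensorQuot B (maximalIdeal R)).toLinearEquiv).symm.annihilator_eq,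
      Ideal.annihilator_quotient]
  exact IsAssociatedPrime.map_of_injective (f := Φ)
    (h := Module.associatedPrimes.minimalPrimes_annihilator_subset_associatedPrimes B _ (hann.symm ▸ hmin)) hΦ

end Groth.Agent.RelAss14
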