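import Groth.Agent.RelAss14.Core
import Groth.Agent.Codepth5.Scheme
import Groth.Agent.QCoh.Stalk
import Groth.Agent.FibFlat.Stalk
import Groth.Prelude.Def_MoreMor

/-!
# Associated points of the fibres and base change
-/

set_option autoImplicit false
set_option linter.style.haveILetI false
set_option backward.isDefEq.respectTransparency false
set_option backward.isDefEq.respectTransparency.types false
set_option maxHeartbeats 1000000

universe u

open AlgebraicGeometry CategoryTheory CategoryTheory.Limits IsLocalRing TensorProduct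

namespace Groth.Agent.RelAss14

variable {X S : Scheme.{u}}

/-- The closed point of the stalk is associated to the module. -/
def AssPt (F : X.Modules) (x : X) : Prop :=
  IsAssociatedPrime (maximalIdeal (X.presheaf.stalk x)) (F.presheaf.stalk x)

theorem relAss_iff (f : X ⟶ S) (F : X.Modules) (x : X) (s : S) (w : ↥(f.fiber s)) (hw : f.fiberι s w = x) :
    x ∈ MoreMor.relAss f F ↔ AssPt ((Scheme.Modules.pullback (f.fiberι s)).obj F) w := by
  subst hw
  let ι := f.fiberι s
  let O := X.presheaf.stalk (ι w)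
  let σ : O →+* (f.fiber s).presheaf.stalk w := (ι.stalkMap w).hom
  letI : Algebra O ((f.fiber s).presheaf.stalk w) := σ.toAlgebra
  have hσ : Function.Surjective σ := ι.stalkMap_surjective w
  let J : Ideal O := Codepth5.fibIdeal f (ι w)
  have hJ : RingHom.ker σ = J := FlatDvr.ker_stalkMap_fiberι f w
  let e₀ : ((Scheme.Modules.pullback ι).obj F).presheaf.stalk w ≃ₗ[(f.fiber s).presheaf.stalk w]
      TensorProduct O ((f.fiber s).presheaf.stalk w) (F.presheaf.stalk (ι w)) :=
    ((KFlatLib.stalkPullbackIso ι w).app F).toLinearEquiv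
  let e₁ : (O ⧸ J) ≃ₗ[O] (f.fiber s).presheaf.stalk w :=
    (Submodule.quotEquivOfEq J (LinearMap.ker (Algebra.linearMap O ((f.fiber s).presheaf.stalk w))) hJ.symm) ≪≫ₗ
      (Algebra.linearMap O ((f.fiber s).presheaf.stalk w)).quotKerEquivOfSurjective hσ
  let e₂ := (TensorProduct.quotTensorEquivQuotSMul (F.presheaf.stalk (ι w)) J).symm ≪≫ₗ
    TensorProduct.congr e₁ (LinearEquiv.refl O (F.presheaf.stalk (ι w)))
  refine ass_maximal_congr σ hσ (e₂.toAddEquiv.trans e₀.symm.toAddEquiv) (fun r x => ?_)
  show e₀.symm (e₂ (r • x)) = σ r • e₀.symm (e₂ x)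
  rw [e₂.map_smul, show r • e₂ x = σ r • e₂ x from (algebraMap_smul ((f.fiber s).presheaf.stalk w) r (e₂ x)).symm,
    e₀.symm.map_smul]

theorem assPt_congr {F G : X.Modules} (α : F ≅ G) (x : X) : AssPt F x ↔ AssPt G x :=
  let e := ((DerSch.stalkFunctor X x).mapIso α).toLinearEquiv
  ass_maximal_congr (RingHom.id _) Function.surjective_id e.toAddEquiv fun r m => e.map_smul r m

/-- The stalk of a pullback of a finite type module to a fibre is finite. -/
theorem finite_stalk_fibre (f : X ⟶ S) (F : X.Modules) [Coh.IsQCoh F] (hF : CohB1.IsFT F) (s : S) (w : ↥(f.fiber s)) :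
    Module.Finite ((f.fiber s).presheaf.stalk w) (((Scheme.Modules.pullback (f.fiberι s)).obj F).presheaf.stalk w) := by
  let ι := f.fiberι s
  haveI := QCoh.finite_stalk_of_isFT ‹Coh.IsQCoh F› hF (ι w)
  letI : Algebra (X.presheaf.stalk (ι w)) ((f.fiber s).presheaf.stalk w) := (ι.stalkMap w).hom.toAlgebra
  haveI : Module.Finite ((f.fiber s).presheaf.stalk w)
      (TensorProduct (X.presheaf.stalk (ι w)) ((f.fiber s).presheaf.stalk w) (F.presheaf.stalk (ι w))) := inferInstance
  let e₀ : ((Scheme.Modules.pullback ι).obj F).presheaf.stalk w ≃ₗ[(f.fiber s).presheaf.stalk w]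
      TensorProduct (X.presheaf.stalk (ι w)) ((f.fiber s).presheaf.stalk w) (F.presheaf.stalk (ι w)) :=
    ((KFlatLib.stalkPullbackIso ι w).app F).toLinearEquiv
  exact Module.Finite.equiv e₀.symm

variable {W V : Scheme.{u}} (e : W ⟶ V) [Flat e] [IsLocallyNoetherian V] (G : V.Modules)

/-- Flat maps send associated points to associated points. -/
theorem assPt_apply (w : W) [Module.Finite (V.presheaf.stalk (e w)) (G.presheaf.stalk (e w))]
    (h : AssPt ((Scheme.Modules.pullback e).obj G) w) : AssPt G (e w) := by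
  letI : Algebra (V.presheaf.stalk (e w)) (W.presheaf.stalk w) := (e.stalkMap w).hom.toAlgebra
  haveI : Module.Flat (V.presheaf.stalk (e w)) (W.presheaf.stalk w) := Flat.stalkMap e w
  haveI : IsLocalHom (algebraMap (V.presheaf.stalk (e w)) (W.presheaf.stalk w)) :=
    inferInstanceAs (IsLocalHom (e.stalkMap w).hom)
  let e₀ : ((Scheme.Modules.pullback e).obj G).presheaf.stalk w ≃ₗ[W.presheaf.stalk w]
      TensorProduct (V.presheaf.stalk (e w)) (W.presheaf.stalk w) (G.presheaf.stalk (e w)) :=
    ((KFlatLib.stalkPullbackIso e w).app G).toLinearEquiv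
  exact ass_maximal_of_tensor _ ((ass_maximal_congr (RingHom.id _) Function.surjective_id e₀.toAddEquiv
    fun r m => e₀.map_smul r m).1 h)

/-- The generic points of the fibre over an associated point are associated. -/
theorem assPt_of_apply [IsLocallyNoetherian W] (w : W)
    [Module.Finite (V.presheaf.stalk (e w)) (G.presheaf.stalk (e w))]
    (h : AssPt G (e w)) (hw : ∀ w', w' ⤳ w → e w' = e w → w' = w) :
    AssPt ((Scheme.Modules.pullback e).obj G) w := by
  letI : Algebra (V.presheaf.stalk (e w)) (W.presheaf.stalk w) := (e.stalkMap w).hom.toAlgebra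
  haveI : Module.Flat (V.presheaf.stalk (e w)) (W.presheaf.stalk w) := Flat.stalkMap e w
  haveI : IsLocalHom (algebraMap (V.presheaf.stalk (e w)) (W.presheaf.stalk w)) :=
    inferInstanceAs (IsLocalHom (e.stalkMap w).hom)
  let e₀ : ((Scheme.Modules.pullback e).obj G).presheaf.stalk w ≃ₗ[W.presheaf.stalk w]
      TensorProduct (V.presheaf.stalk (e w)) (W.presheaf.stalk w) (G.presheaf.stalk (e w)) :=
    ((KFlatLib.stalkPullbackIso e w).app G).toLinearEquiv
  refine (ass_maximal_congr (RingHom.id _) Function.surjective_id e₀.toAddEquiv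
    fun r m => e₀.map_smul r m).2 (ass_maximal_tensor _ h ?_)
  refine ⟨⟨inferInstance, ?_⟩, fun P ⟨hP, hle⟩ _ => ?_⟩
  · exact (((IsLocalRing.local_hom_TFAE (algebraMap (V.presheaf.stalk (e w)) (W.presheaf.stalk w))).out 0 2).1
      (show IsLocalHom (algebraMap (V.presheaf.stalk (e w)) (W.presheaf.stalk w)) from inferInstance))
  let p : Spec (W.presheaf.stalk w) := ⟨P, hP⟩
  have hp : Spec.map (e.stalkMap w) p = closedPoint (V.presheaf.stalk (e w)) :=
    PrimeSpectrum.ext ((maximalIdeal.isMaximal _).eq_of_le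
      (Ideal.IsPrime.ne_top (hP.comap (e.stalkMap w).hom)) (Ideal.map_le_iff_le_comap.1 hle)).symm
  have h1 : e (W.fromSpecStalk w p) = e w := by
    rw [← Scheme.Hom.comp_apply, ← Scheme.SpecMap_stalkMap_fromSpecStalk, Scheme.Hom.comp_apply, hp,
      Scheme.fromSpecStalk_closedPoint]
  have h2 := hw _ (by
    have := (IsLocalRing.specializes_closedPoint p).map (W.fromSpecStalk w).continuous
    rwa [Scheme.fromSpecStalk_closedPoint] at this) h1
  have h3 : p = closedPoint _ :=
    (W.fromSpecStalk w).isEmbedding.injective (h2.trans Scheme.fromSpecStalk_closedPoint.symm)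
  exact (congrArg PrimeSpectrum.asIdeal h3).ge

end Groth.Agent.RelAss14
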